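import Mathlib
import Cfsg.Agent.Lib.Helper55.OOG.Defs
import Cfsg.Agent.Lib.Helper5.SLGen

/-!
# OOG (S2413), package LEVIOM: the Levi image of `SL_m` lies in `Ω`.
-/

set_option autoImplicit false

namespace Cfsg.Agent.Lib.Helper5.OOG

open Cfsg.Agent.Lib.Helper55.OOG

universe u

theorem pkgLeviOm_of (hXL : PkgXL.{u}) (hOm : PkgOm.{u}) : PkgLeviOm.{u} := by
  intro m F _ _ hodd hm L hL g
  have hnt : Nontrivial (Fin m) := Fin.nontrivial_iff_two_le.mpr hm
  have htop : (Cfsg.Omega F (Cfsg.quadFormOdd m F)).comap L = ⊤ := by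
    apply Cfsg.Agent.Lib.Helper5.eq_top_of_transvection_mem
    intro i j hij c
    rw [Subgroup.mem_comap]
    refine hOm m F hodd (Fv j) (c • E i) _ (Q_Fv j) ?_ (hXL m F L hL i j hij c)
    rw [B_smul_right, B_Fv_E, if_neg hij.symm, mul_zero]
  have hg : g ∈ (Cfsg.Omega F (Cfsg.quadFormOdd m F)).comap L := by
    rw [htop]; exact Subgroup.mem_top g
  exact Subgroup.mem_comap.mp hg

end Cfsg.Agent.Lib.Helper5.OOG
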