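import Mathlib
import Cfsg.Agent.Lib.Helper55.OOG.Defs

/-!
# OOG (S2413), package XL: the Levi image of a transvection is the long root element
`ρ_{f_j, c e_i}`.
-/

set_option autoImplicit false

namespace Cfsg.Agent.Lib.Helper5.OOG

open Cfsg.Agent.Lib.Helper55.OOG
open scoped Matrix

universe u

theorem pkgXL : PkgXL.{u} := by
  intro m F _ L hL i j hij c v
  rw [hL]
  have hinv : ((Matrix.SpecialLinearGroup.transvection hij c :
      Matrix.SpecialLinearGroup (Fin m) F) : Matrix (Fin m) (Fin m) F)⁻¹
      = 1 + Matrix.single i j (-c) := by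
    apply Matrix.inv_eq_right_inv
    have h1 := congrArg (fun g : Matrix.SpecialLinearGroup (Fin m) F =>
      (g : Matrix (Fin m) (Fin m) F)) (Matrix.SpecialLinearGroup.transvection_mul_neg hij c)
    simpa [Matrix.SpecialLinearGroup.transvection_coe] using h1
  unfold leviMat
  rw [hinv, Matrix.SpecialLinearGroup.transvection_coe, Matrix.transpose_add,
    Matrix.transpose_one, Matrix.transpose_single]
  rw [B_Fv, B_smul_right, B_E, Q_smul, Q_E]
  funext k
  rcases k with ⟨⟩ | a | a
  · simp [Matrix.fromBlocks_mulVec, Matrix.add_mulVec, Matrix.single_mulVec_eq, Pi.single_apply]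
  · simp [Matrix.fromBlocks_mulVec, Matrix.add_mulVec, Matrix.single_mulVec_eq, Pi.single_apply]
    split_ifs <;> ring
  · simp [Matrix.fromBlocks_mulVec, Matrix.add_mulVec, Matrix.single_mulVec_eq, Pi.single_apply]
    split_ifs <;> ring

end Cfsg.Agent.Lib.Helper5.OOG
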